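import Cfsg.Agent.OddHalf.D6.QThree.L43End.List
import Cfsg.Agent.OddHalf.Small.RowsAll
import Cfsg.Agent.OddHalf.Small.J3
import Cfsg.Agent.OddHalf.Small.M24Char
import Cfsg.Agent.KFacts.RgdLieCharP
import Cfsg.Agent.Co2Type.CardCo2
import Cfsg.Agent.MonsterX.ThOneClass
import Cfsg.Agent.S1758
import Cfsg.Agent.S1759
import Cfsg.Agent.S1762
import Cfsg.Agent.S1763

/-!
# ODD D6, row `L₄(3)`: the end "symplectic type"

`end_false`: `Ctx G`, `F*(C(z))` of symplectic type, of order `2⁵`, `2⁷` or `2⁹` if extraspecial, `13` divides `|G|`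
and some involution is not conjugate to `z`: impossible.
-/

set_option autoImplicit false

namespace Cfsg.Agent.OddHalf.D6.QThree.L43End

open Subgroup Cfsg
open Cfsg.Agent.OddHalf.D5.SixAut

universe u

theorem rows9 : Rows9.{u} where
  rows := Small.RowsAll.rows
  psl G _ _ _ hc h := (KFacts.RgdLieCharP.hasFilt_of_lie (Or.inl h)).charTwo hc
  psu G _ _ _ hc h := (KFacts.RgdLieCharP.hasFilt_of_lie (Or.inr (Or.inr (Or.inl h)))).charTwo hc
  j3 G _ _ h := Small.J3.j3 G h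
  m24 G _ _ h := Small.M24Char.m24 h
  pop G _ _ _ hc h := (KFacts.RgdLieCharP.hasFilt_of_lie (Or.inr (Or.inr (Or.inr (Or.inr (Or.inl h)))))).charTwo hc
  pom G _ _ _ hc h :=
    (KFacts.RgdLieCharP.hasFilt_of_lie (Or.inr (Or.inr (Or.inr (Or.inr (Or.inr (Or.inl h))))))).charTwo hc
  tw G _ _ _ hc h :=
    (KFacts.RgdLieCharP.hasFilt_of_lie (Or.inr (Or.inr (Or.inr (Or.inr (Or.inr (Or.inr (Or.inr h)))))))).charTwo hc
  co2 G _ h := by
    obtain ⟨e⟩ := h
    rw [Nat.card_congr e.toEquiv, Co2Type.CardCo2.card_co2]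
    norm_num
  th G _ h s t hs ht := by
    obtain ⟨e⟩ := h
    have h1 := MonsterX.ThOneClass.oneClass (e s) (e t) (by rw [← hs]; exact MulEquiv.orderOf_eq e s)
      (by rw [← ht]; exact MulEquiv.orderOf_eq e t)
    obtain ⟨c, hc⟩ := isConj_iff.1 h1
    refine ⟨e.symm c, ?_⟩
    apply e.injective
    rw [map_mul, map_mul, map_inv, e.apply_symm_apply]
    exact hc

theorem listed : SymListed.{u} where
  s1758 _ _ _ _ h z hz hQ := S1758.result h z hz hQ
  s1759 _ _ _ z hz hQ hE h32 hL hL' := S1759.result z hz hQ hE h32 hL hL'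
  s1762 _ _ _ _ h z hz hQ hE hc := S1762.result h z hz hQ hE hc

theorem p1763 : P1763.{u} := fun _ _ _ _ h z hz hQ hE hc => S1763.result h z hz hQ hE hc

/-- **the end "symplectic type"** -/
theorem end_false {G : Type u} [Group G] (hC : Iface.Ctx G) {z t : G} (hz : orderOf z = 2)
    (hQ : Cfsg.IsOfSymplecticType ↥(Cfsg.generalizedFittingSubgroup ↥(Subgroup.centralizer ({z} : Set G))))
    (h13 : 13 ∣ Nat.card G) (tt : t * t = 1) (t1 : t ≠ 1) (htz : ∀ g : G, g * t * g⁻¹ ≠ z)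
    (hcard : Cfsg.IsExtraspecial 2 ↥(Cfsg.generalizedFittingSubgroup ↥(Subgroup.centralizer ({z} : Set G))) →
      Nat.card ↥(Cfsg.generalizedFittingSubgroup ↥(Subgroup.centralizer ({z} : Set G))) = 2 ^ 5 ∨
      Nat.card ↥(Cfsg.generalizedFittingSubgroup ↥(Subgroup.centralizer ({z} : Set G))) = 2 ^ 7 ∨
      Nat.card ↥(Cfsg.generalizedFittingSubgroup ↥(Subgroup.centralizer ({z} : Set G))) = 2 ^ 9) : False :=
  end_false_of rows9 listed p1763 hC hz hQ h13 tt t1 htz hcard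

end Cfsg.Agent.OddHalf.D6.QThree.L43End
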