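import Cfsg.Agent.OddHalf.D5.SixAut.SymList

/-!
# ODD D6, row `L₄(3)`: the end "symplectic type", the lists of S1758, S1759, S1762, S1763

`end_false_of`: `Ctx G`, `F*(C(z))` of symplectic type, of order `2⁵`, `2⁷` or `2⁹` if extraspecial, `13` divides `|G|`
and some involution is not conjugate to `z`: impossible, given the listed theorems and the rows of characteristic 2
type.
-/

set_option autoImplicit false

namespace Cfsg.Agent.OddHalf.D6.QThree.L43End

open Subgroup Cfsg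
open Cfsg.Agent.OddHalf.Small Cfsg.Agent.OddHalf.D5.SixAut

universe u

/-- the conclusion of S1763 -/
def List512 (G : Type u) [Group G] : Prop :=
  (∃ (F : Type) (_ : Field F) (_ : Fintype F), Fintype.card F = 2 ∧ (Nonempty (G ≃* Matrix.ProjectiveSpecialLinearGroup (Fin 6) F) ∨
        Nonempty (G ≃* Cfsg.POmega F (Cfsg.quadFormPlus 4 F)) ∨
        (∃ a b : F, (∀ z₁ z₂ : F, z₁ ^ 2 + a * z₁ * z₂ + b * z₂ ^ 2 = 0 → z₁ = 0 ∧ z₂ = 0) ∧
          Nonempty (G ≃* Cfsg.POmega F (Cfsg.quadFormMinus 3 F a b))))) ∨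
      (∃ (F : Type) (_ : Field F) (_ : Fintype F), Fintype.card F = 4 ∧ Nonempty (G ≃* Cfsg.PSU 6 F 2)) ∨
      (∃ (K : Type) (_ : Field K) (_ : Fintype K), Fintype.card K = 8 ∧ Nonempty (G ≃* ↥(Cfsg.Lie.twistedD4 K 2))) ∨
      (∃ (F : Type) (_ : Field F) (_ : Fintype F), Fintype.card F = 3 ∧ Nonempty (G ≃* Cfsg.POmega F (Cfsg.quadFormPlus 4 F))) ∨
      Cfsg.Spor.IsoCo1 G ∨ Cfsg.Spor.IsoCo2 G ∨ Cfsg.Spor.IsoTh G ∨ Cfsg.Spor.IsoHN G

/-- S1763 -/
def P1763 : Prop :=
  ∀ (G : Type u) [Group G] [Finite G] [IsSimpleGroup G]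
    (_ : ¬ IsMulCommutative G) (z : G) (_ : orderOf z = 2) (_ : Cfsg.IsOfSymplecticType ↥(Cfsg.generalizedFittingSubgroup ↥(Subgroup.centralizer ({z} : Set G)))) (_ : Cfsg.IsExtraspecial 2 ↥(Cfsg.generalizedFittingSubgroup ↥(Subgroup.centralizer ({z} : Set G)))) (_ : Nat.card ↥(Cfsg.generalizedFittingSubgroup ↥(Subgroup.centralizer ({z} : Set G))) = 2 ^ 9),
    List512 G

/-- the rows -/
structure Rows9 : Prop extends SymRows.{u} where
  pop : ∀ (G : Type u) [Group G] [Finite G] [IsSimpleGroup G], (∃ a b : G, a * b ≠ b * a) → IsPOmegaPlusChar 2 G →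
    IsCharacteristicTwoType G
  pom : ∀ (G : Type u) [Group G] [Finite G] [IsSimpleGroup G], (∃ a b : G, a * b ≠ b * a) → IsPOmegaMinusChar 2 G →
    IsCharacteristicTwoType G
  tw : ∀ (G : Type u) [Group G] [Finite G] [IsSimpleGroup G], (∃ a b : G, a * b ≠ b * a) → IsTwistedE6D4Char 2 G →
    IsCharacteristicTwoType G
  co2 : ∀ (G : Type u) [Group G], Spor.IsoCo2 G → ¬ 13 ∣ Nat.card G
  th : ∀ (G : Type u) [Group G], Spor.IsoTh G → ∀ s t : G, orderOf s = 2 → orderOf t = 2 → ∃ g, g * s * g⁻¹ = t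

variable {G : Type u} [Group G]

theorem list512_false (R : Rows9.{u}) (hC : Iface.Ctx G) {z t : G} (hz : orderOf z = 2) (ht : orderOf t = 2)
    (htz : ∀ g : G, g * t * g⁻¹ ≠ z) (h13 : 13 ∣ Nat.card G) (h : List512 G) : False := by
  have := hC.fin
  have := hC.simple
  have h2 := hC.notTwo
  have hnc := exists_nc hC
  rcases h with ⟨F, _, _, hF, e | e | ⟨a, b, hab, e⟩⟩ | ⟨F, _, _, hF, e⟩ | ⟨F, _, _, hF, e⟩ | ⟨F, _, _, hF, e⟩ |
    h | h | h | h
  · have hch : CharP F 2 := charP_two_of_card (n := 1) (by norm_num) (by rw [hF]; norm_num)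
    exact h2 (R.psl G hnc ⟨F, inferInstance, inferInstance, hch, 6, by norm_num, by norm_num, e⟩)
  · have hch : CharP F 2 := charP_two_of_card (n := 1) (by norm_num) (by rw [hF]; norm_num)
    exact h2 (R.pop G hnc ⟨F, inferInstance, inferInstance, hch, 4, le_rfl, e⟩)
  · have hch : CharP F 2 := charP_two_of_card (n := 1) (by norm_num) (by rw [hF]; norm_num)
    exact h2 (R.pom G hnc ⟨F, inferInstance, inferInstance, hch, 4, a, b, le_rfl, hab, e⟩)
  · have hch : CharP F 2 := charP_two_of_card (n := 2) (by norm_num) (by rw [hF]; norm_num)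
    exact h2 (R.psu G hnc ⟨F, inferInstance, inferInstance, hch, 6, 2, by rw [hF]; norm_num, by norm_num, by norm_num, e⟩)
  · have hch : CharP F 2 := charP_two_of_card (n := 3) (by norm_num) (by rw [hF]; norm_num)
    exact h2 (R.tw G hnc ⟨F, inferInstance, inferInstance, hch, 2, Nat.prime_two.isPrimePow,
      Or.inr ⟨by rw [hF]; norm_num, e⟩⟩)
  · apply hC.nc
    refine Plug.concl_of_lieOdd R.rows h2 ?_
    obtain ⟨p, hp, hp2, hc⟩ := Plug.exists_char F (by rw [hF]; decide)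
    refine ⟨p, hp, hp2, ?_⟩
    iterate 4 right
    left
    exact ⟨F, inferInstance, inferInstance, hc, 4, le_rfl, e⟩
  · apply hC.nc
    unfold Iface.Concl Excl.Concl
    iterate 13 right
    exact Or.inl h
  · exact R.co2 G h h13
  · obtain ⟨g, hg⟩ := R.th G h t z ht hz
    exact htz g hg
  · apply hC.nc
    unfold Iface.Concl Excl.Concl
    iterate 17 right
    exact Or.inl h

/-- **the end "symplectic type"** -/
theorem end_false_of (R : Rows9.{u}) (L : SymListed.{u}) (L9 : P1763.{u}) (hC : Iface.Ctx G) {z t : G}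
    (hz : orderOf z = 2)
    (hQ : Cfsg.IsOfSymplecticType ↥(Cfsg.generalizedFittingSubgroup ↥(Subgroup.centralizer ({z} : Set G))))
    (h13 : 13 ∣ Nat.card G) (tt : t * t = 1) (t1 : t ≠ 1) (htz : ∀ g : G, g * t * g⁻¹ ≠ z)
    (hcard : Cfsg.IsExtraspecial 2 ↥(Cfsg.generalizedFittingSubgroup ↥(Subgroup.centralizer ({z} : Set G))) →
      Nat.card ↥(Cfsg.generalizedFittingSubgroup ↥(Subgroup.centralizer ({z} : Set G))) = 2 ^ 5 ∨
      Nat.card ↥(Cfsg.generalizedFittingSubgroup ↥(Subgroup.centralizer ({z} : Set G))) = 2 ^ 7 ∨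
      Nat.card ↥(Cfsg.generalizedFittingSubgroup ↥(Subgroup.centralizer ({z} : Set G))) = 2 ^ 9) : False := by
  have := hC.fin
  have := hC.simple
  have hf : Fact (Nat.Prime 2) := ⟨Nat.prime_two⟩
  have z1 : z ≠ 1 := by
    rintro rfl
    rw [orderOf_one] at hz
    omega
  have ht : orderOf t = 2 := orderOf_eq_prime (by rw [pow_two]; exact tt) t1
  have h2 := hC.notTwo
  rcases L.s1758 G hC.na z hz hQ with hE | h | ⟨F, _, _, hF, ⟨e⟩⟩ | h | ⟨F, _, _, hF, e⟩ | ⟨F, _, _, hF, e⟩ | h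
  · rcases hcard hE with h32 | h128 | h512
    · have h1 := L.s1759 G z hz hQ hE (by rw [h32]; norm_num) (D0.star_simple G hC.na) (D0.star_na G hC.na)
      exact list32_false R.toSymRows hC (list32_congr (D0.starEquiv G hC.na) h1)
    · exact list128_false R.toSymRows hC (L.s1762 G hC.na z hz hQ hE h128)
    · exact list512_false R hC hz ht htz h13 (L9 G hC.na z hz hQ hE h512)
  · exact center_false hC z1 h
  · apply hC.nc
    rcases Nat.even_or_odd (Fintype.card F) with he | ho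
    · exact absurd (L2.psl2_even he e) h2
    · rcases Nat.lt_or_ge (Fintype.card F) 4 with h4 | h4
      · have h3 : Fintype.card F = 3 := by
          have := Plug.one_lt F
          obtain ⟨k, hk⟩ := ho
          omega
        exact absurd (L2.psl2 (Or.inl ⟨by rw [h3]; exact Nat.prime_three, Or.inl ⟨2, by omega⟩⟩) e) h2
      · exact Plug.concl_of_lieOdd R.rows h2 (Plug.lieOdd_psl F ho le_rfl (fun _ => h4) ⟨e⟩)
  · exact h2 (M11.charTwo_of_iso h)
  · exact hC.nc (Plug.concl_of_lieOdd R.rows h2 (Plug.lieOdd_psl F (by rw [hF]; decide) (by norm_num)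
      (fun h => absurd h (by norm_num)) e))
  · exact hC.nc (Plug.concl_of_lieOdd R.rows h2 (Plug.lieOdd_psu F (q := 3) (by rw [hF]; norm_num) (by decide) le_rfl e))
  · apply hC.nc
    unfold Iface.Concl Excl.Concl
    iterate 7 right
    exact Or.inl h

end Cfsg.Agent.OddHalf.D6.QThree.L43End
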